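import Groth.Agent.H11Proj.ProjMapSurj
import Groth.Agent.H11Proj.ProjSpace

/-!
# Coordinate subspaces of projective space
-/

set_option autoImplicit false
set_option linter.style.haveILetI false
universe u

open CategoryTheory CategoryTheory.Limits AlgebraicGeometry MvPolynomial CohB1

namespace Groth.Agent.H06Lin

variable (R : Type u) [CommRing R] {n N : ℕ} (e : Fin (n + 1) → Fin (N + 1)) (he : Function.Injective e)

/-- Substituting zero for the coordinates outside the range. -/
noncomputable def sub : MvPolynomial (Fin (N + 1)) R →ₐ[R] MvPolynomial (Fin (n + 1)) R :=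
  aeval (Function.extend e X 0)

theorem sub_X_apply (i : Fin (n + 1)) (he : Function.Injective e) : sub R e (X (e i)) = X i := by
  rw [sub, aeval_X, he.extend_apply]

theorem sub_X_not (l : Fin (N + 1)) (hl : ¬ ∃ i, e i = l) : sub R e (X l) = 0 := by
  rw [sub, aeval_X, Function.extend_apply' _ _ _ hl]
  rfl

/-- The graded map of a coordinate subspace. -/
noncomputable def subGr : polyGrading N R →+*ᵍ polyGrading n R where
  toRingHom := (sub R e).toRingHom
  map_mem {i x} hx := by
    have h : (sub R e x).IsHomogeneous (1 * i) := by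
      refine IsHomogeneous.aeval hx _ fun l => ?_
      by_cases hl : ∃ j, e j = l
      · obtain ⟨j, rfl⟩ := hl
        classical
        rw [Function.extend_def, dif_pos ⟨j, rfl⟩]
        exact isHomogeneous_X _ _
      · rw [Function.extend_apply' _ _ _ hl]
        exact isHomogeneous_zero _ _ _
    rw [one_mul] at h
    exact h

include he in
/-- A coordinate subspace. -/
theorem exists_linear : ∃ L : ProjSpace n R ⟶ ProjSpace N R,
    IsClosedImmersion L ∧ L ≫ ProjSpace.toSpec N R = ProjSpace.toSpec n R ∧
      (∀ (l : Fin (N + 1)), (¬ ∃ i, e i = l) → ∀ p, L p ∉ Proj.basicOpen (polyGrading N R) (X l)) ∧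
      ∀ p, ∃ i, L p ∈ Proj.basicOpen (polyGrading N R) (X (e i)) := by
  have hφ : HomogeneousIdeal.irrelevant (polyGrading n R) ≤
      (HomogeneousIdeal.irrelevant (polyGrading N R)).map (subGr R e) := by
    show (HomogeneousIdeal.irrelevant (polyGrading n R)).toIdeal ≤
      (HomogeneousIdeal.irrelevant (polyGrading N R)).toIdeal.map (subGr R e)
    refine (H11Proj.ProjSpace.irrelevant_le_span n R).trans (Ideal.span_le.2 ?_)
    rintro _ ⟨i, rfl⟩
    rw [← sub_X_apply R e i he]
    refine Ideal.mem_map_of_mem (subGr R e) ?_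
    exact HomogeneousIdeal.mem_irrelevant_of_mem (polyGrading N R) one_pos (isHomogeneous_X R (e i))
  have hsurj : ∀ m : ℕ, 0 ≤ m → Set.SurjOn (subGr R e) (polyGrading N R m) (polyGrading n R m) := by
    intro m _ b hb
    refine ⟨rename e b, IsHomogeneous.rename_isHomogeneous hb, ?_⟩
    show sub R e (rename e b) = b
    rw [sub, aeval_rename, Function.extend_comp he]
    exact aeval_X_left_apply b
  refine ⟨Proj.map (subGr R e) hφ, H11Proj.isClosedImmersion_map_of_surjOn _ hφ hsurj, ?_,
    fun l hl p hp => ?_, fun p => ?_⟩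
  · show Proj.map (subGr R e) hφ ≫ Proj.toSpecZero _ ≫ _ = _
    rw [H11Proj.map_toSpecZero_assoc, ← Spec.map_comp, ← CommRingCat.ofHom_comp]
    show _ = Proj.toSpecZero _ ≫ _
    congr 3
    ext r
    exact congrArg _ ((sub R e).commutes r)
  · have h0 : p ∈ Proj.map (subGr R e) hφ ⁻¹ᵁ Proj.basicOpen (polyGrading N R) (X l) := hp
    rw [Proj.map_preimage_basicOpen, show (subGr R e) (X l) = 0 from sub_X_not R e l hl, Proj.basicOpen_zero] at h0
    exact h0
  · obtain ⟨i, hi⟩ := TopologicalSpace.Opens.mem_iSup.1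
      ((H11Proj.ProjSpace.iSup_basicOpen n R).symm ▸ trivial : p ∈ ⨆ i : Fin (n + 1), Proj.basicOpen (polyGrading n R) (X i))
    refine ⟨i, ?_⟩
    show p ∈ Proj.map (subGr R e) hφ ⁻¹ᵁ Proj.basicOpen (polyGrading N R) (X (e i))
    rw [Proj.map_preimage_basicOpen, show (subGr R e) (X (e i)) = X i from sub_X_apply R e i he]
    exact hi

end Groth.Agent.H06Lin
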